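import Cfsg.Agent.Lib.ClassSizes.CopTools

/-!
# Class sizes `{1, n, m, n * m}` with `n, m` coprime: first consequences
-/

set_option autoImplicit false

namespace Cfsg.Agent.Lib.ClassSizesFour21

open Cfsg.Agent.Lib.ClassSizes.Basic Cfsg.Agent.Lib.ClassSizes.CopTools

variable {G : Type*} [Group G]

/-- The class sizes are `1`, `n`, `m`, `n * m` with `n, m > 1` coprime. -/
structure Four (G : Type*) [Group G] (n m : ℕ) : Prop where
  one_lt_n : 1 < n
  one_lt_m : 1 < m
  cop : n.Coprime m
  mem : ∀ x : G, idx x = 1 ∨ idx x = n ∨ idx x = m ∨ idx x = n * m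
  exists_n : ∃ x : G, idx x = n
  exists_m : ∃ x : G, idx x = m
  exists_nm : ∃ x : G, idx x = n * m

variable {n m : ℕ}

theorem Four.symm (S : Four G n m) : Four G m n where
  one_lt_n := S.one_lt_m
  one_lt_m := S.one_lt_n
  cop := S.cop.symm
  mem x := by
    rcases S.mem x with e | e | e | e
    · exact Or.inl e
    · exact Or.inr (Or.inr (Or.inl e))
    · exact Or.inr (Or.inl e)
    · exact Or.inr (Or.inr (Or.inr (e.trans (Nat.mul_comm n m))))
  exists_n := S.exists_m
  exists_m := S.exists_n
  exists_nm := S.exists_nm.imp fun _ h => h.trans (Nat.mul_comm n m)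

theorem idx_one_iff {x : G} : idx x = 1 ↔ x ∈ Subgroup.center G :=
  Subgroup.index_eq_one.trans cen_eq_top_iff

theorem Four.noncentral (S : Four G n m) {x : G} (h : n ∣ idx x ∨ m ∣ idx x) :
    x ∉ Subgroup.center G := by
  intro hz
  rw [idx_one_iff.2 hz, Nat.dvd_one, Nat.dvd_one] at h
  have := S.one_lt_n
  have := S.one_lt_m
  omega

theorem Four.cases (S : Four G n m) {x : G} (h : x ∉ Subgroup.center G) :
    idx x = n ∨ idx x = m ∨ idx x = n * m :=
  (S.mem x).resolve_left fun h1 => h (idx_one_iff.1 h1)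

theorem Four.not_dvd (S : Four G n m) : ¬ n ∣ m := fun h => by
  have h1 := Nat.eq_one_of_dvd_coprimes S.cop dvd_rfl h
  have := S.one_lt_n
  omega

theorem Four.not_prime_dvd (S : Four G n m) {p : ℕ} (hp : p.Prime) (h : p ∣ n) : ¬ p ∣ m :=
  fun h' => hp.ne_one (Nat.eq_one_of_dvd_coprimes S.cop h h')

theorem Four.n_ne_nm (S : Four G n m) : n * m ≠ n := fun h => by
  have h1 := S.one_lt_m
  have h2 := S.one_lt_n
  nlinarith

theorem Four.cases_of_dvd (S : Four G n m) {x : G} (h : n ∣ idx x) :
    idx x = n ∨ idx x = n * m := by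
  rcases S.cases (S.noncentral (Or.inl h)) with e | e | e
  · exact Or.inl e
  · exact absurd (e ▸ h) S.not_dvd
  · exact Or.inr e

theorem Four.dvd_or (S : Four G n m) {x : G} (h : x ∉ Subgroup.center G) :
    n ∣ idx x ∨ m ∣ idx x := by
  rcases S.cases h with e | e | e <;> rw [e]
  · exact Or.inl dvd_rfl
  · exact Or.inr dvd_rfl
  · exact Or.inl (Dvd.intro m rfl)

theorem cen_eq_of_le_idx [Finite G] {x y : G} (hle : cen x ≤ cen y) (h : idx y = idx x) :
    cen x = cen y :=
  Sizes.cen_eq_of_le hle h

theorem Four.idx_eq_of_le [Finite G] (S : Four G n m) {x y : G} (hle : cen x ≤ cen y)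
    (hx : idx x = n) (hy : y ∉ Subgroup.center G) : idx y = n := by
  have h : idx y ∣ n := (Subgroup.index_dvd_of_le hle).trans hx.dvd
  rcases S.cases hy with e | e | e
  · exact e
  · exact absurd (e ▸ h) S.symm.not_dvd
  · exact absurd ((Nat.mul_dvd_mul_iff_left (show 0 < n by have := S.one_lt_n; omega)).1
      (show n * m ∣ n * 1 by rw [mul_one, ← e]; exact h)) (by
        rw [Nat.dvd_one]; have := S.one_lt_m; omega)

theorem conj_idx [Finite G] (g x : G) : idx (g * x * g⁻¹) = idx x := by
  have h : cen (g * x * g⁻¹) = (cen x).map (MulAut.conj g).toMonoidHom := by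
    ext y
    rw [Subgroup.mem_map_equiv, MulAut.conj_symm_apply, mem_cen_conj]
  change (cen (g * x * g⁻¹)).index = (cen x).index
  rw [h]
  exact Subgroup.index_map_of_bijective (MulAut.conj g).bijective _

theorem conj_isPEl {p : ℕ} {x : G} (h : IsPEl p x) (g : G) : IsPEl p (g * x * g⁻¹) := by
  obtain ⟨k, hk⟩ := h
  exact ⟨k, by rw [conj_pow, hk]; group⟩

theorem conj_noncentral {x : G} (h : x ∉ Subgroup.center G) (g : G) :
    g * x * g⁻¹ ∉ Subgroup.center G := by
  intro hz
  have h1 := (Subgroup.mem_center_iff.1 hz g)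
  apply h
  have h2 : g * x * g⁻¹ = x := by
    calc g * x * g⁻¹ = g⁻¹ * (g * (g * x * g⁻¹)) := by group
      _ = g⁻¹ * (g * x * g⁻¹ * g) := by rw [h1]
      _ = x := by group
  rwa [h2] at hz

variable [Finite G]


theorem cen_mul {a b : G} (hc : Commute a b) (hcop : (orderOf a).Coprime (orderOf b)) :
    cen (a * b) = cen a ⊓ cen b :=
  cen_mul_eq hc hcop

/-- An element with class of size `n` has a primary power with the same centralizer. -/
theorem Four.exists_primary (S : Four G n m) {x : G} (hx : idx x = n) :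
    ∃ (p : ℕ) (a : G), p.Prime ∧ IsPEl p a ∧ idx a = n ∧ cen a = cen x := by
  obtain ⟨p, a, hp, hax, haz, hap⟩ :=
    exists_primary_notMem (C := Subgroup.center G) (S.noncentral (Or.inl (dvd_of_eq hx.symm)))
  have hle : cen x ≤ cen a := cen_le_of_mem_zpowers hax
  have ha := S.idx_eq_of_le hle hx haz
  exact ⟨p, a, hp, hap, ha, (cen_eq_of_le_idx hle (ha.trans hx.symm)).symm⟩

theorem Four.prime_dvd (S : Four G n m) {p : ℕ} (hp : p.Prime) {a : G} (ha : IsPEl p a)
    (haz : a ∉ Subgroup.center G) : p ∣ n ∨ p ∣ m := by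
  have : Fact p.Prime := ⟨hp⟩
  obtain ⟨P, hP⟩ := (ha.isPGroup hp).exists_le_sylow
  obtain ⟨g, hg⟩ := (exists_dvd_iff P).2 fun hle => haz (hle (hP (Subgroup.mem_zpowers a)))
  change p ∣ idx g at hg
  rcases S.mem g with e | e | e | e <;> rw [e] at hg
  · exact absurd hg hp.not_dvd_one
  · exact Or.inl hg
  · exact Or.inr hg
  · exact hp.dvd_mul.1 hg

/-- The exponents of `p` in a centralizer and in the class size. -/
theorem factorization_add (x : G) (p : ℕ) :
    (Nat.card (cen x)).factorization p + (idx x).factorization p =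
      (Nat.card G).factorization p := by
  rw [← (cen x).card_mul_index, Nat.factorization_mul Nat.card_pos.ne'
    Subgroup.index_ne_zero_of_finite, Finsupp.add_apply]

omit [Finite G] in
theorem Four.factorization_idx (S : Four G n m) {x : G} (h : n ∣ idx x) {p : ℕ} (hp : p.Prime)
    (hpn : p ∣ n) : (idx x).factorization p = n.factorization p := by
  rcases S.cases_of_dvd h with e | e <;> rw [e]
  rw [Nat.factorization_mul (by have := S.one_lt_n; omega) (by have := S.one_lt_m; omega),
    Finsupp.add_apply, Nat.factorization_eq_zero_of_not_dvd (S.not_prime_dvd hp hpn), add_zero]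

theorem Four.factorization_eq (S : Four G n m) {x y : G} (hx : n ∣ idx x) (hy : n ∣ idx y)
    {p : ℕ} (hp : p.Prime) (hpn : p ∣ n) :
    (Nat.card (cen x)).factorization p = (Nat.card (cen y)).factorization p := by
  have h1 := factorization_add x p
  have h2 := factorization_add y p
  rw [S.factorization_idx hx hp hpn] at h1
  rw [S.factorization_idx hy hp hpn] at h2
  omega

/-- All `p`-elements of `H` are central exactly when the `p`-part of `H` is that of the centre. -/
theorem central_of_factorization_le {p : ℕ} [Fact p.Prime] {H : Subgroup G}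
    (hz : Subgroup.center G ≤ H)
    (h : (Nat.card H).factorization p ≤ (Nat.card (Subgroup.center G)).factorization p)
    {v : G} (hv : v ∈ H) (hvp : IsPEl p v) : v ∈ Subgroup.center G := by
  by_contra hvz
  obtain ⟨u, hu, -, huz⟩ := exists_noncentral_of_card (H := Subgroup.center G) hz h hv hvp hvz
  exact huz hu

theorem factorization_le_of_central {p : ℕ} [Fact p.Prime] {H : Subgroup G}
    (h : ∀ v ∈ H, IsPEl p v → v ∈ Subgroup.center G) :
    (Nat.card H).factorization p ≤ (Nat.card (Subgroup.center G)).factorization p := by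
  obtain ⟨Q, hQH, hQp, hQ⟩ := exists_psub (p := p) H
  exact (Nat.Prime.pow_dvd_iff_le_factorization Fact.out Nat.card_pos.ne').1
    (hQ ▸ Subgroup.card_dvd_of_le fun u hu => h u (hQH hu) (isPEl_of_mem hQp hu))

/-- The centrality of `p`-elements passes between centralizers with equal `p`-parts. -/
theorem Four.central_transfer (S : Four G n m) {p : ℕ} [hp : Fact p.Prime] (hpn : p ∣ n) {x g : G}
    (hx : n ∣ idx x) (hg : n ∣ idx g) (h : ∀ v ∈ cen x, IsPEl p v → v ∈ Subgroup.center G)
    {v : G} (hv : v ∈ cen g) (hvp : IsPEl p v) : v ∈ Subgroup.center G :=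
  central_of_factorization_le (center_le_cen g)
    ((S.factorization_eq hg hx hp.out hpn).trans_le (factorization_le_of_central h)) hv hvp

/-- The product of an element of class size `n` with a commuting element of coprime order. -/
theorem Four.extend (S : Four G n m) {x v : G} (hx : idx x = n) (hv : v ∈ cen x)
    (hcop : (orderOf x).Coprime (orderOf v)) :
    cen x ≤ cen v ∨ idx (x * v) = n * m := by
  have hc : Commute x v := mem_cen.1 hv
  have e := cen_mul_eq hc hcop
  have hle : cen (x * v) ≤ cen x := e.le.trans inf_le_left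
  rcases S.cases_of_dvd (x := x * v) (hx ▸ Subgroup.index_dvd_of_le hle) with h | h
  · exact Or.inl ((cen_eq_of_le_idx hle (hx.trans h.symm)) ▸ e.le.trans inf_le_right)
  · exact Or.inr h

end Cfsg.Agent.Lib.ClassSizesFour21
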