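import Cfsg.Agent.Lib.ClassSizesFour21.Two
import Cfsg.Agent.Lib.Induced.Integral

/-!
# Class sizes `{1, q ^ a, p ^ b, q ^ a * p ^ b}`: the crossing configuration is impossible

Here every noncentral `p`-element has class size divisible by `n = q ^ a` and every noncentral
`q`-element class size divisible by `m = p ^ b`.
-/

set_option autoImplicit false

namespace Cfsg.Agent.Lib.ClassSizesFour21

open Cfsg.Agent.Lib.ClassSizes.Basic Cfsg.Agent.Lib.ClassSizes.CopTools

variable {G : Type*} [Group G] [Finite G] {n m p q : ℕ}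

/-- The crossing configuration. -/
structure Cross (G : Type*) [Group G] (n m q p : ℕ) : Prop where
  two : Two G n m q p
  pel : ∀ t : G, IsPEl p t → t ∉ Subgroup.center G → n ∣ idx t
  qel : ∀ v : G, IsPEl q v → v ∉ Subgroup.center G → m ∣ idx v

omit [Finite G] in
theorem Cross.symm (X : Cross G n m q p) : Cross G m n p q := ⟨X.two.symm, X.qel, X.pel⟩

theorem Cross.exists_q_idx_m (X : Cross G n m q p) : ∃ y : G, IsPEl q y ∧ idx y = m := by
  obtain ⟨y₀, hy₀⟩ := X.two.four.exists_m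
  obtain ⟨s, y, hs, hys, hy, -⟩ := X.two.four.symm.exists_primary hy₀
  have hyz : y ∉ Subgroup.center G := X.two.four.noncentral (Or.inr (dvd_of_eq hy.symm))
  rcases X.two.prime_cases hs hys hyz with e | e
  · exact ⟨y, e ▸ hys, hy⟩
  · have h := X.pel y (e ▸ hys) hyz
    rw [hy] at h
    exact absurd h X.two.four.not_dvd

theorem Cross.exists_p_idx_n (X : Cross G n m q p) : ∃ x : G, IsPEl p x ∧ idx x = n :=
  X.symm.exists_q_idx_m

/-- `n` is not the full `q`-part of `|G : Z(G)|`. -/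
theorem Cross.full_false (X : Cross G n m q p) {g : G} (hg : n ∣ idx g)
    (h : ∀ v ∈ cen g, IsPEl q v → v ∈ Subgroup.center G) : False := by
  have T := X.two
  have : Fact q.Prime := ⟨T.hq⟩
  have : Fact p.Prime := ⟨T.hp⟩
  have S := T.four
  have hall : ∀ g' : G, n ∣ idx g' → ∀ v ∈ cen g', IsPEl q v → v ∈ Subgroup.center G :=
    fun g' hg' v hv hvq => S.central_transfer T.qn hg hg' h hv hvq
  obtain ⟨y, hyq, hy⟩ := X.exists_q_idx_m
  have hyz : y ∉ Subgroup.center G := S.noncentral (Or.inr (dvd_of_eq hy.symm))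
  have hp : ∀ t ∈ cen y, IsPEl p t → t ∈ Subgroup.center G := by
    intro t ht htp
    by_contra htz
    exact hyz (hall t (X.pel t htp htz) y (mem_cen_comm.1 ht) hyq)
  obtain ⟨z, hz⟩ := S.exists_nm
  obtain ⟨l, a, hl, haz, ha, hal⟩ := exists_primary_notMem (C := Subgroup.center G)
    (S.noncentral (x := z) (Or.inl (hz ▸ Dvd.intro m rfl)))
  have hac : a ∈ cen z := mem_of_mem_zpowers haz (self_mem_cen z)
  rcases T.prime_cases hl hal ha with e | e
  · subst e
    exact ha (hall z (hz ▸ Dvd.intro m rfl) a hac hal)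
  · subst e
    exact ha (S.symm.central_transfer T.pm (dvd_of_eq hy.symm) (hz ▸ Dvd.intro_left n rfl)
      hp hac hal)

/-- For `a` of class size `n`, every Sylow `q`-subgroup meets `C(a)` in `|G|_q / n` elements. -/
theorem Two.card_sylow_inf (T : Two G n m q p) [Fact q.Prime] {a : G} (ha : idx a = n)
    (Q : Sylow q G) :
    Nat.card ((Q : Subgroup G) ⊓ cen a : Subgroup G) =
      q ^ (Nat.card (cen a)).factorization q := by
  refine le_antisymm (Lib.TwoClassSizes.card_le_ordProj (Q.2.to_le inf_le_left) inf_le_right) ?_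
  have h1 : ((Q : Subgroup G) ⊓ cen a).relIndex Q ≤ n := by
    rw [Subgroup.inf_relIndex_left, ← ha]
    exact (Subgroup.relIndex_le_of_le_right le_top
      (by rw [Subgroup.relIndex_top_right]; exact Subgroup.index_ne_zero_of_finite)).trans
      (Subgroup.relIndex_top_right _).le
  have h2 := Subgroup.card_mul_index (((Q : Subgroup G) ⊓ cen a).subgroupOf Q)
  rw [Nat.card_congr (Subgroup.subgroupOfEquivOfLe
    (inf_le_left : (Q : Subgroup G) ⊓ cen a ≤ Q)).toEquiv, Q.card_eq_multiplicity] at h2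
  change _ * ((Q : Subgroup G) ⊓ cen a).relIndex Q = _ at h2
  have h4 := factorization_add a q
  rw [ha] at h4
  have h5 : q ^ (Nat.card G).factorization q = q ^ (Nat.card (cen a)).factorization q * n := by
    conv_rhs => rw [T.n_eq, ← pow_add, h4]
  refine Nat.le_of_mul_le_mul_right (c := n) ?_ (by have := T.four.one_lt_n; omega)
  rw [← h5, ← h2]
  exact Nat.mul_le_mul_left _ h1

/-- With `O_q(G)` central the configuration is impossible. -/
theorem Cross.caseOne (X : Cross G n m q p) (hK : Cfsg.pCore q G ≤ Subgroup.center G) : False := by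
  have T := X.two
  have S := T.four
  have : Fact q.Prime := ⟨T.hq⟩
  have : Fact p.Prime := ⟨T.hp⟩
  set R := Cfsg.pCore p G with hRdef
  have hRp : IsPGroup p R := Cores.pCore_isPGroup p
  have hKc : ∀ (g : G), ∀ k ∈ Cfsg.pCore q G, Commute g k := fun g k hk =>
    Subgroup.mem_center_iff.1 (hK hk) g
  -- noncentral elements of `R` have class size `n`
  have hRn : ∀ u ∈ R, u ∉ Subgroup.center G → idx u = n := by
    intro u hu huz
    have hup : IsPEl p u := isPEl_of_mem hRp hu
    rcases S.cases_of_dvd (X.pel u hup huz) with e | e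
    · exact e
    refine (X.full_false (g := u) (X.pel u hup huz) fun v hv hvq => ?_).elim
    have hdv : ∀ r ∈ R, v * r = r * v := by
      refine Lib.Classif.pTimesQ (p := p) R (Subgroup.zpowers u) v hRp (hup.isPGroup T.hp)
        (Subgroup.zpowers_le.2 (Subgroup.le_normalizer hu))
        (fun x hx => (inferInstance : R.Normal).conj_mem x hx v)
        (hvq.coprime T.hq ((Nat.coprime_primes T.hq T.hp).2 T.p_ne_q.symm)) ?_ ?_
      · rintro _ ⟨i, rfl⟩
        exact ((show Commute u v from mem_cen.1 hv).symm.zpow_right i).eq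
      · intro x hx hxu
        have hxc : x ∈ cen u := mem_cen.2 (hxu u (Subgroup.mem_zpowers u))
        exact (T.split hup (e ▸ Dvd.intro_left n rfl) hxc (isPEl_of_mem hRp hx) hv
          (hvq.coprime T.hq ((Nat.coprime_primes T.hq T.hp).2 T.p_ne_q.symm))).eq.symm
    exact hK (T.symm.mem_pCore hvq (hKc v) hdv)
  -- `R` is abelian
  have hRab : ∀ a ∈ R, ∀ b ∈ R, Commute a b := by
    intro a ha b hb
    by_cases haz : a ∈ Subgroup.center G
    · exact (Subgroup.mem_center_iff.1 haz b).symm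
    · exact mem_cen.1 (pCore_le_cen T (by rw [hRn a ha haz]; exact T.p_not_dvd_n) hb)
  -- `p`-elements of class size `n` lie in `R`
  have hnR : ∀ x : G, IsPEl p x → idx x = n → x ∈ R := by
    intro x hxp hx
    exact T.mem_pCore hxp
      (fun r hr => mem_cen.1 (pCore_le_cen T (by rw [hx]; exact T.p_not_dvd_n) hr)) (hKc x)
  obtain ⟨y, hyq, hy⟩ := X.exists_q_idx_m
  have hyz : y ∉ Subgroup.center G := S.noncentral (Or.inr (dvd_of_eq hy.symm))
  obtain ⟨Q, hQ⟩ := exists_sylow_cen (r := q) (x := y) (hy ▸ T.q_not_dvd_m)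
  have hyQ : y ∈ (Q : Subgroup G) := mem_sylow_of_centralizes Q hyq hQ
  -- `y` fixes only central elements of `R`
  have hfix : ∀ a ∈ R, Commute y a → a ∈ Subgroup.center G := by
    intro a₀ ha₀ hc₀
    by_contra ha₀z
    obtain ⟨a₁, ha₁, hc₁⟩ : ∃ a₁ ∈ R, ¬ Commute y a₁ := by
      by_contra hall
      push Not at hall
      exact hyz (hK (T.symm.mem_pCore hyq (hKc y) hall))
    refine fixed_or_moved_false (A := R) (H := (Q : Subgroup G)) hRab hyQ
      (fun a ha => (inferInstance : R.Normal).conj_mem a ha y) ?_ ?_ ha₀ ha₀z hc₀ ha₁ ?_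
    · intro g hg a _
      have hgy : Commute g y := (show Commute y g from mem_cen.1 (hQ hg)).symm
      calc g * (y * a * y⁻¹) * g⁻¹ = (g * y) * a * (g * y)⁻¹ := by group
        _ = (y * g) * a * (y * g)⁻¹ := by rw [hgy.eq]
        _ = _ := by group
    · intro a ha b hb haz hbz hle
      refine (Subgroup.eq_of_le_of_card_ge hle ?_).ge
      rw [T.card_sylow_inf (hRn b hb hbz) Q, T.card_sylow_inf (hRn a ha haz) Q,
        S.factorization_eq (dvd_of_eq (hRn b hb hbz).symm) (dvd_of_eq (hRn a ha haz).symm) T.hq T.qn]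
    · exact fun hz => hc₁ (move_not_center T.hp hRp ((inferInstance : R.Normal).conj_mem a₁ ha₁ y)
        ha₁ (hyq.coprime T.hq ((Nat.coprime_primes T.hq T.hp).2 T.p_ne_q.symm)) hz)
  -- `p`-elements centralising `y` are central
  refine X.symm.full_false (g := y) (dvd_of_eq hy.symm) fun t ht htp => ?_
  by_contra htz
  rcases S.cases_of_dvd (X.pel t htp htz) with e | e
  · exact htz (hfix t (hnR t htp e) (show Commute y t from mem_cen.1 ht))
  · obtain ⟨x₀, hx₀p, hx₀⟩ := X.exists_p_idx_n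
    obtain ⟨P, hP⟩ := exists_sylow_cen (r := p) (x := x₀) (hx₀ ▸ T.p_not_dvd_n)
    obtain ⟨c, hc⟩ := exists_conj_mem htp P
    set x := c⁻¹ * x₀ * c⁻¹⁻¹ with hxdef
    have hxi : idx x = n := (conj_idx c⁻¹ x₀).trans hx₀
    have hxp : IsPEl p x := conj_isPEl hx₀p c⁻¹
    have hxt : x ∈ cen t := by
      rw [mem_cen_comm, hxdef, mem_cen_conj, inv_inv]
      exact hP hc
    have hxy : Commute x y := T.split htp (e ▸ Dvd.intro_left n rfl) hxt hxp (mem_cen_comm.1 ht)
      (hyq.coprime T.hq ((Nat.coprime_primes T.hq T.hp).2 T.p_ne_q.symm))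
    exact S.noncentral (Or.inl (dvd_of_eq hxi.symm)) (hfix x (hnR x hxp hxi) hxy.symm)

theorem dvd_card_of_conj_invariant {k : ℕ} (s : Finset G)
    (hs : ∀ g : G, ∀ a ∈ s, g * a * g⁻¹ ∈ s) (hd : ∀ a ∈ s, k ∣ idx a) : k ∣ s.card := by
  classical
  induction hN : s.card using Nat.strong_induction_on generalizing s with
  | _ N ih =>
    subst hN
    rcases s.eq_empty_or_nonempty with rfl | ⟨w, hw⟩
    · simp
    have := Fintype.ofFinite G
    let C : Finset G := Finset.univ.image fun g : G => g * w * g⁻¹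
    have hCs : C ⊆ s := by
      intro a ha
      obtain ⟨g, -, rfl⟩ := Finset.mem_image.1 ha
      exact hs g w hw
    have hC : C.card = idx w := by
      change _ = (cen w).index
      rw [← Lib.Induced.Integral.nat_card_carrier w, Nat.card_coe_set_eq, ← Set.ncard_coe_finset]
      congr 1
      ext a
      simp [C, ConjClasses.mem_carrier_iff_mk_eq, ConjClasses.mk_eq_mk_iff_isConj, isConj_iff]
      exact ⟨fun ⟨y, hy⟩ => ⟨y⁻¹, by rw [← hy]; group⟩, fun ⟨c, hc⟩ => ⟨c⁻¹, by rw [← hc]; group⟩⟩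
    have hwC : w ∈ C := Finset.mem_image.2 ⟨1, Finset.mem_univ _, by group⟩
    have hlt : (s \ C).card < s.card := Finset.card_lt_card
      (Finset.sdiff_ssubset hCs ⟨w, hwC⟩)
    have h1 : k ∣ (s \ C).card := by
      refine ih _ hlt (s \ C) (fun g a ha => ?_) (fun a ha => hd a (Finset.mem_sdiff.1 ha).1) rfl
      obtain ⟨ha1, ha2⟩ := Finset.mem_sdiff.1 ha
      refine Finset.mem_sdiff.2 ⟨hs g a ha1, fun hg => ha2 ?_⟩
      obtain ⟨c, -, hc⟩ := Finset.mem_image.1 hg
      refine Finset.mem_image.2 ⟨g⁻¹ * c, Finset.mem_univ _, ?_⟩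
      calc g⁻¹ * c * w * (g⁻¹ * c)⁻¹ = g⁻¹ * (c * w * c⁻¹) * g := by group
        _ = a := by rw [hc]; group
    rw [← Finset.card_sdiff_add_card_eq_card hCs, hC]
    exact dvd_add h1 (hd w hw)

/-- If a `p`-element fixes only central elements of `O_q(G)`, then `m < n`. -/
theorem Cross.lt_of_fix (X : Cross G n m q p) {t : G} (htp : IsPEl p t)
    (ht : ∀ w ∈ Cfsg.pCore q G, w ∈ cen t → w ∈ Subgroup.center G) {w₀ : G}
    (hw₀ : w₀ ∈ Cfsg.pCore q G) (hw₀z : w₀ ∉ Subgroup.center G) : m < n := by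
  classical
  have T := X.two
  have S := T.four
  have : Fact q.Prime := ⟨T.hq⟩
  set K := Cfsg.pCore q G
  have hKq : IsPGroup q K := Cores.pCore_isPGroup q
  have htz : t ∉ Subgroup.center G := fun h => hw₀z (ht w₀ hw₀ (mem_cen.2
    (Subgroup.mem_center_iff.1 h w₀).symm))
  obtain ⟨D, hDt, hDq, hDc⟩ := exists_psub (p := q) (cen t)
  set Z := Subgroup.center G ⊓ K
  have hDK : (D ⊓ K : Subgroup G) ≤ Z := fun a ha => ⟨ht a ha.2 (hDt ha.1), ha.2⟩
  have hle : Nat.card K ≤ n * Nat.card Z := by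
    have hsup : IsPGroup q (D ⊔ K : Subgroup G) := hDq.to_sup_of_normal_right hKq
    have h1 : Nat.card (D ⊔ K : Subgroup G) ≤ q ^ (Nat.card G).factorization q := by
      have := Lib.TwoClassSizes.card_le_ordProj hsup (le_top : D ⊔ K ≤ ⊤)
      rwa [Subgroup.card_top] at this
    have h2 : Nat.card (D ⊔ K : Subgroup G) * Nat.card (D ⊓ K : Subgroup G) =
        Nat.card D * Nat.card K := by
      have e1 := Subgroup.card_mul_index ((K).subgroupOf (D ⊔ K))
      have e2 := Subgroup.card_mul_index ((K).subgroupOf D)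
      rw [Nat.card_congr (Subgroup.subgroupOfEquivOfLe (le_sup_right : K ≤ D ⊔ K)).toEquiv] at e1
      rw [← Subgroup.inf_subgroupOf_left,
        Nat.card_congr (Subgroup.subgroupOfEquivOfLe (inf_le_left : D ⊓ K ≤ D)).toEquiv] at e2
      change Nat.card K * K.relIndex (D ⊔ K) = _ at e1
      change _ * (D ⊓ K).relIndex D = _ at e2
      rw [Subgroup.relIndex_sup_right] at e1
      rw [Subgroup.inf_relIndex_left] at e2
      rw [← e1, ← e2]
      ring
    have h3 : Nat.card (D ⊓ K : Subgroup G) ≤ Nat.card Z := Subgroup.card_le_of_le hDK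
    have h4 := factorization_add t q
    rw [S.factorization_idx (X.pel t htp htz) T.hq T.qn] at h4
    rw [hDc] at h2
    have h5 : q ^ (Nat.card G).factorization q = q ^ (Nat.card (cen t)).factorization q * n := by
      conv_rhs => rw [T.n_eq, ← pow_add, h4]
    refine Nat.le_of_mul_le_mul_left (c := q ^ (Nat.card (cen t)).factorization q) ?_
      (pow_pos T.hq.pos _)
    calc q ^ (Nat.card (cen t)).factorization q * Nat.card K
        = Nat.card (D ⊔ K : Subgroup G) * Nat.card (D ⊓ K : Subgroup G) := h2.symm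
      _ ≤ q ^ (Nat.card (cen t)).factorization q * n * Nat.card Z := by
          rw [← h5]; exact Nat.mul_le_mul h1 h3
      _ = _ := by ring
  have := Fintype.ofFinite G
  let s : Finset G := Finset.univ.filter fun a => a ∈ K ∧ a ∉ Subgroup.center G
  have hs : m ∣ s.card := by
    refine dvd_card_of_conj_invariant s (fun g a ha => ?_) (fun a ha => ?_)
    · obtain ⟨h1, h2⟩ := (Finset.mem_filter.1 ha).2
      exact Finset.mem_filter.2 ⟨Finset.mem_univ _,
        (inferInstance : K.Normal).conj_mem a h1 g, conj_noncentral h2 g⟩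
    · obtain ⟨h1, h2⟩ := (Finset.mem_filter.1 ha).2
      exact X.qel a (isPEl_of_mem hKq h1) h2
  have hcard : s.card + Nat.card Z = Nat.card K := by
    rw [Nat.card_eq_fintype_card, Nat.card_eq_fintype_card, Fintype.card_subtype,
      Fintype.card_subtype, ← Finset.card_union_of_disjoint]
    · congr 1
      ext a
      simp [s, Z, Subgroup.mem_inf]
      tauto
    · rw [Finset.disjoint_left]
      intro a ha
      simp [s, Z, Subgroup.mem_inf] at ha ⊢
      tauto
  have hpos : 0 < s.card := Finset.card_pos.2 ⟨w₀, by simp [s, hw₀, hw₀z]⟩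
  obtain ⟨kk, hkk⟩ := Subgroup.card_dvd_of_le (inf_le_right : Z ≤ K)
  have hcop : m.Coprime (Nat.card Z) := by
    obtain ⟨j, hj⟩ := (hKq.to_le (inf_le_right : Z ≤ K)).exists_card_eq
    rw [hj]
    exact Nat.Coprime.pow_right _ ((T.hq.coprime_iff_not_dvd.2 T.q_not_dvd_m).symm)
  have hs' : s.card = Nat.card Z * (kk - 1) := by
    rw [Nat.mul_sub_one, ← hkk]; omega
  have h6 := Nat.le_of_dvd (by
    rcases Nat.eq_zero_or_pos (kk - 1) with h | h
    · rw [h, mul_zero] at hs'; omega
    · exact h) (hcop.dvd_of_dvd_mul_left (hs' ▸ hs))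
  have h7 : kk ≤ n := Nat.le_of_mul_le_mul_left (c := Nat.card Z) (by
    rw [← hkk]; exact hle.trans (le_of_eq (Nat.mul_comm _ _))) Nat.card_pos
  have := S.one_lt_m
  omega

/-- With both cores noncentral some `p`-element fixes only central elements of `O_q(G)`. -/
theorem Cross.exists_fix (X : Cross G n m q p) {u₀ w₀ : G} (hu₀ : u₀ ∈ Cfsg.pCore p G)
    (hu₀z : u₀ ∉ Subgroup.center G) (hw₀ : w₀ ∈ Cfsg.pCore q G)
    (hw₀z : w₀ ∉ Subgroup.center G) :
    ∃ t : G, IsPEl p t ∧ ∀ w ∈ Cfsg.pCore q G, w ∈ cen t → w ∈ Subgroup.center G := by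
  by_contra hcon
  push Not at hcon
  have T := X.two
  have S := T.four
  have : Fact q.Prime := ⟨T.hq⟩
  have : Fact p.Prime := ⟨T.hp⟩
  set R := Cfsg.pCore p G
  set K := Cfsg.pCore q G
  have hRp : IsPGroup p R := Cores.pCore_isPGroup p
  have hKq : IsPGroup q K := Cores.pCore_isPGroup q
  have hcross : ∀ a ∈ R, ∀ b ∈ K, Commute a b := fun a ha b hb => by
    refine Subgroup.commute_of_normal_of_disjoint R K inferInstance inferInstance ?_ a b ha hb
    obtain ⟨i, hi⟩ := hRp.exists_card_eq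
    obtain ⟨j, hj⟩ := hKq.exists_card_eq
    exact disjoint_iff.2 (Subgroup.inf_eq_bot_of_coprime
      (hi ▸ hj ▸ Nat.Coprime.pow i j ((Nat.coprime_primes T.hp T.hq).2 T.p_ne_q)))
  have hpR : ∀ t : G, IsPEl p t → ∀ r ∈ R, Commute t r := by
    intro t htp r hr
    obtain ⟨w, hw, hwt, hwz⟩ := hcon t htp
    exact T.centralizes_pCore (isPEl_of_mem hKq hw) (X.qel w (isPEl_of_mem hKq hw) hwz)
      (mem_cen_comm.1 hwt) htp (fun a ha => mem_cen.2 (hcross a ha w hw).eq.symm) hr
  have hqK : ∀ v ∈ cen u₀, IsPEl q v → ∀ b ∈ K, Commute v b := fun v hv hvq b hb =>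
    T.symm.centralizes_pCore (isPEl_of_mem hRp hu₀) (X.pel u₀ (isPEl_of_mem hRp hu₀) hu₀z) hv hvq
      (fun a ha => mem_cen.2 (hcross u₀ hu₀ a ha).eq) hb
  have hKab : ∀ a ∈ K, ∀ b ∈ K, Commute a b := fun a ha b hb =>
    hqK a (mem_cen.2 (hcross u₀ hu₀ a ha).eq) (isPEl_of_mem hKq ha) b hb
  set M := Subgroup.centralizer (R : Set G) with hMdef
  haveI : M.Normal := Subgroup.normal_centralizer
  set N := M ⊓ Subgroup.centralizer (K : Set G) with hNdef
  haveI : N.Normal := inferInstance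
  have hpM : ∀ t : G, IsPEl p t → t ∈ M := fun t ht =>
    Subgroup.mem_centralizer_iff.2 fun r hr => (hpR t ht r hr).eq.symm
  -- `M / N` is a `p`-group
  have hMN : IsPGroup p (M ⧸ N.subgroupOf M) := by
    intro x
    induction x using QuotientGroup.induction_on with
    | H g =>
      obtain ⟨a, s, ha, hs, has, ⟨k, hk⟩, hcop⟩ := Lib.Elem70.exists_primary_split T.hp (g : G)
      refine ⟨k, ?_⟩
      rw [← QuotientGroup.mk_pow, QuotientGroup.eq_one_iff, Subgroup.mem_subgroupOf,
        Subgroup.coe_pow]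
      have hgM : ∀ b ∈ Subgroup.zpowers (g : G), b ∈ M := fun b hb => mem_of_mem_zpowers hb g.2
      have hsN : s ∈ N := by
        refine pel_of_primes fun r hr b hb hbr => ?_
        have hbg : b ∈ Subgroup.zpowers (g : G) := Subgroup.zpowers_le.2 hs hb
        refine ⟨hgM b hbg, ?_⟩
        by_cases hbz : b ∈ Subgroup.center G
        · exact Subgroup.center_le_centralizer _ hbz
        rcases T.prime_cases hr hbr hbz with e | e
        · subst e
          refine Subgroup.mem_centralizer_iff.2 fun c hc => (hqK b ?_ hbr c hc).eq.symm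
          exact mem_cen.2 ((Subgroup.mem_centralizer_iff.1 (hgM b hbg)) u₀ hu₀)
        · exfalso
          subst e
          obtain ⟨j, hj⟩ := hbr
          refine hbz ?_
          rw [orderOf_eq_one_iff.1 (Nat.eq_one_of_dvd_coprimes (hcop.pow_right j)
            (orderOf_dvd_of_mem_zpowers hb) (orderOf_dvd_of_pow_eq_one hj))]
          exact one_mem _
      have hc : Commute a s := by
        obtain ⟨i, rfl⟩ := ha
        obtain ⟨j, rfl⟩ := hs
        exact Commute.zpow_zpow (Commute.refl _) i j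
      rw [has, hc.mul_pow, hk, one_mul]
      exact pow_mem hsN _
  -- a nontrivial central element of `M / N`
  have hne : Nontrivial (M ⧸ N.subgroupOf M) := by
    rw [nontrivial_iff_exists_ne (1 : M ⧸ N.subgroupOf M)]
    by_contra hall
    push Not at hall
    obtain ⟨P⟩ : Nonempty (Sylow p G) := inferInstance
    refine absurd (X.qel w₀ (isPEl_of_mem hKq hw₀) hw₀z) fun hd => ?_
    have hPc : (P : Subgroup G) ≤ cen w₀ := by
      intro a ha
      have h1 : (⟨a, hpM a (isPEl_of_mem P.2 ha)⟩ : M) ∈ N.subgroupOf M :=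
        (QuotientGroup.eq_one_iff _).1 (hall _)
      exact mem_cen.2 (Subgroup.mem_centralizer_iff.1 (Subgroup.mem_subgroupOf.1 h1).2 w₀ hw₀)
    exact not_dvd_of_sylow_le P hPc (T.pm.trans hd)
  have := hne
  obtain ⟨c, hc1, hc2⟩ : ∃ c ∈ Subgroup.center (M ⧸ N.subgroupOf M), c ≠ 1 := by
    have := hMN.center_nontrivial
    obtain ⟨⟨c, hc⟩, hne1⟩ := exists_ne (1 : Subgroup.center (M ⧸ N.subgroupOf M))
    exact ⟨c, hc, fun h => hne1 (Subtype.ext h)⟩
  induction c using QuotientGroup.induction_on with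
  | H g =>
    obtain ⟨k, hk⟩ := hMN (g : M ⧸ N.subgroupOf M)
    obtain ⟨t, s, ht, hs, hts, htk, hcop⟩ := Lib.Elem70.exists_primary_split T.hp (g : G)
    have htp : IsPEl p t := htk
    have htM : t ∈ M := hpM t htp
    have hsM : s ∈ M := mem_of_mem_zpowers hs g.2
    have hsN : (⟨s, hsM⟩ : M) ∈ N.subgroupOf M := by
      rw [← QuotientGroup.eq_one_iff]
      obtain ⟨j, hj⟩ := hMN ((⟨s, hsM⟩ : M) : M ⧸ N.subgroupOf M)
      refine orderOf_eq_one_iff.1 (Nat.eq_one_of_dvd_coprimes (hcop.pow_right j)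
        ((orderOf_map_dvd (QuotientGroup.mk' _) _).trans (dvd_of_eq (Subgroup.orderOf_mk _ _)))
        (orderOf_dvd_of_pow_eq_one hj))
    have htg : ((⟨t, htM⟩ : M) : M ⧸ N.subgroupOf M) = g := by
      rw [show g = (⟨t, htM⟩ : M) * ⟨s, hsM⟩ from Subtype.ext hts, QuotientGroup.mk_mul,
        (QuotientGroup.eq_one_iff _).2 hsN, mul_one]
    have hgt : ∀ h ∈ M, ∀ a ∈ K, h * (t * a * t⁻¹) * h⁻¹ = t * (h * a * h⁻¹) * t⁻¹ := by
      intro h hh a ha
      have h1 : ((⟨t, htM⟩ * ⟨h, hh⟩ : M) : M ⧸ N.subgroupOf M) = (⟨h, hh⟩ * ⟨t, htM⟩ : M) := by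
        rw [QuotientGroup.mk_mul, QuotientGroup.mk_mul, htg]
        exact ((Subgroup.mem_center_iff.1 hc1) _).symm
      have h2 := (Subgroup.mem_subgroupOf.1 (QuotientGroup.eq.1 h1)).2
      have h3 := Subgroup.mem_centralizer_iff.1 h2 a ha
      simp only [Subgroup.coe_mul, Subgroup.coe_inv] at h3
      calc h * (t * a * t⁻¹) * h⁻¹ = (h * t) * a * (h * t)⁻¹ := by group
        _ = (t * h) * (((t * h)⁻¹ * (h * t)) * a * ((t * h)⁻¹ * (h * t))⁻¹) * (t * h)⁻¹ := by group
        _ = (t * h) * a * (t * h)⁻¹ := by rw [← h3, mul_inv_cancel_right]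
        _ = _ := by group
    obtain ⟨a₀, ha₀, ha₀t, ha₀z⟩ := hcon t htp
    obtain ⟨a₁, ha₁, ha₁t⟩ : ∃ a₁ ∈ K, ¬ Commute t a₁ := by
      by_contra hall
      push Not at hall
      refine hc2 (htg ▸ (QuotientGroup.eq_one_iff _).2 (Subgroup.mem_subgroupOf.2 ⟨htM,
        Subgroup.mem_centralizer_iff.2 fun a ha => (hall a ha).eq.symm⟩))
    refine fixed_or_moved_false (A := K) (H := M) hKab htM
      (fun a ha => (inferInstance : K.Normal).conj_mem a ha t) hgt ?_ ha₀ ha₀z
      (show Commute t a₀ from mem_cen.1 ha₀t) ha₁ ?_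
    · intro a ha b hb haz hbz hle
      have hMc : ∀ d : G, N ≤ M ⊓ cen d ↔ N ≤ cen d := fun d =>
        ⟨fun h => h.trans inf_le_right, fun h => le_inf inf_le_left h⟩
      have hN : ∀ d ∈ K, N ≤ M ⊓ cen d := fun d hd => (hMc d).2 fun x hx =>
        mem_cen.2 (Subgroup.mem_centralizer_iff.1 hx.2 d hd)
      refine Subgroup.relIndex_eq_one.1 ?_
      have hpow : ∃ i, (M ⊓ cen a).relIndex (M ⊓ cen b) = p ^ i := by
        obtain ⟨j, hj⟩ := hMN.exists_card_eq
        have h1 : N.relIndex M = p ^ j := hj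
        have h2 : (M ⊓ cen a).relIndex (M ⊓ cen b) ∣ N.relIndex M := by
          refine Dvd.dvd.trans ?_ (Subgroup.relIndex_dvd_of_le_left _ (hN a ha))
          exact Dvd.intro _ (Subgroup.relIndex_mul_relIndex _ _ _ hle inf_le_left)
        obtain ⟨i, -, hi⟩ := (Nat.dvd_prime_pow T.hp).1 (h1 ▸ h2)
        exact ⟨i, hi⟩
      obtain ⟨i, hi⟩ := hpow
      have hfac : ∀ d ∈ K, d ∉ Subgroup.center G → (Nat.card (M ⊓ cen d : Subgroup G)).factorization p
          = (Nat.card G).factorization p - m.factorization p := by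
        intro d hd hdz
        have h1 := factorization_add d p
        rw [S.symm.factorization_idx (X.qel d (isPEl_of_mem hKq hd) hdz) T.hp T.pm] at h1
        obtain ⟨D, hDd, hDp, hDc⟩ := exists_psub (p := p) (cen d)
        have h2 : D ≤ M ⊓ cen d := fun x hx => ⟨hpM x (isPEl_of_mem hDp hx), hDd hx⟩
        have h3 := (Nat.Prime.pow_dvd_iff_le_factorization T.hp Nat.card_pos.ne').1
          (hDc ▸ Subgroup.card_dvd_of_le h2)
        have h4 := (Nat.factorization_le_iff_dvd Nat.card_pos.ne' Nat.card_pos.ne').2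
          (Subgroup.card_dvd_of_le (inf_le_right : M ⊓ cen d ≤ cen d)) p
        omega
      have h5 := Subgroup.relIndex_mul_relIndex (⊥ : Subgroup G) _ _ bot_le hle
      rw [Subgroup.relIndex_bot_left, Subgroup.relIndex_bot_left, hi] at h5
      have h6 := congrArg (fun x : ℕ => x.factorization p) h5
      simp only [Nat.factorization_mul Nat.card_pos.ne' (pow_ne_zero _ T.hp.ne_zero),
        Finsupp.add_apply, hfac a ha haz, hfac b hb hbz, T.hp.factorization_pow,
        Finsupp.single_eq_same] at h6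
      rw [hi, show i = 0 by omega, pow_zero]
    · exact fun hz => ha₁t (move_not_center T.hq hKq
        ((inferInstance : K.Normal).conj_mem a₁ ha₁ t) ha₁
        (htp.coprime T.hp ((Nat.coprime_primes T.hp T.hq).2 T.p_ne_q)) hz)

/-- The crossing configuration is impossible. -/
theorem Cross.absurd (X : Cross G n m q p) : False := by
  by_cases hK : Cfsg.pCore q G ≤ Subgroup.center G
  · exact X.caseOne hK
  by_cases hR : Cfsg.pCore p G ≤ Subgroup.center G
  · exact X.symm.caseOne hR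
  obtain ⟨w₀, hw₀, hw₀z⟩ := SetLike.not_le_iff_exists.1 hK
  obtain ⟨u₀, hu₀, hu₀z⟩ := SetLike.not_le_iff_exists.1 hR
  obtain ⟨t, htp, ht⟩ := X.exists_fix hu₀ hu₀z hw₀ hw₀z
  obtain ⟨v, hvq, hv⟩ := X.symm.exists_fix hw₀ hw₀z hu₀ hu₀z
  exact lt_asymm (X.lt_of_fix htp ht hw₀ hw₀z) (X.symm.lt_of_fix hvq hv hu₀ hu₀z)

end Cfsg.Agent.Lib.ClassSizesFour21
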