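import Cfsg.Agent.Lib.ClassSizesFour21.Crossing

/-!
# Class sizes `{1, n, m, n * m}` with `n, m` coprime: `G` is nilpotent
-/

set_option autoImplicit false

namespace Cfsg.Agent.Lib.ClassSizesFour21

open Cfsg.Agent.Lib.ClassSizes.Basic Cfsg.Agent.Lib.ClassSizes.CopTools

variable {G : Type*} [Group G] [Finite G] {n m p q : ℕ}

/-- With a `p`-element of class size `m`, no `p`-element has class size `n`. -/
theorem Two.no_crossing (T : Two G n m q p) {r : G} (hrp : IsPEl p r) (hr : idx r = m) {x : G}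
    (hxp : IsPEl p x) : idx x ≠ n := by
  intro hx
  have : Fact p.Prime := ⟨T.hp⟩
  have : Fact q.Prime := ⟨T.hq⟩
  obtain ⟨P, hP⟩ := exists_sylow_cen (r := p) (x := x) (hx ▸ T.p_not_dvd_n)
  obtain ⟨c, hc⟩ := exists_conj_mem hrp P
  have hri : idx (c * r * c⁻¹) = m := (conj_idx c r).trans hr
  have hxr : x ∈ cen (c * r * c⁻¹) := mem_cen_comm.1 (hP hc)
  obtain ⟨Q, hQ⟩ := exists_sylow_cen (r := q) (x := c * r * c⁻¹) (hri ▸ T.q_not_dvd_m)
  refine not_dvd_of_sylow_le Q (fun b hb => mem_cen.2 ?_) (show q ∣ idx x from hx ▸ T.qn)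
  exact (T.split (conj_isPEl hrp c) (dvd_of_eq hri.symm) hxr hxp (hQ hb)
    ((isPEl_of_mem Q.2 hb).coprime T.hq ((Nat.coprime_primes T.hq T.hp).2 T.p_ne_q.symm))).eq

/-- With a `p`-element of class size `m`, the `q`-elements centralise `O_p(G)`. -/
theorem Two.q_centralizes (T : Two G n m q p) {r : G} (hrp : IsPEl p r) (hr : idx r = m) {v : G}
    (hv : IsPEl q v) : ∀ x ∈ Cfsg.pCore p G, Commute v x := by
  have : Fact p.Prime := ⟨T.hp⟩
  have : Fact q.Prime := ⟨T.hq⟩
  obtain ⟨Q, hQ⟩ := exists_sylow_cen (r := q) (x := r) (hr ▸ T.q_not_dvd_m)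
  obtain ⟨c, hc⟩ := exists_conj_mem hv Q
  have hcop : (orderOf (c * v * c⁻¹)).Coprime p :=
    (conj_isPEl hv c).coprime T.hq ((Nat.coprime_primes T.hq T.hp).2 T.p_ne_q.symm)
  have h1 : ∀ x ∈ Cfsg.pCore p G, c * v * c⁻¹ * x = x * (c * v * c⁻¹) := by
    refine Lib.Classif.pTimesQ (p := p) _ (Subgroup.zpowers r) _ (Cores.pCore_isPGroup p)
      (hrp.isPGroup T.hp) ?_ (fun x hx => (inferInstance : (Cfsg.pCore p G).Normal).conj_mem x hx _)
      hcop ?_ ?_
    · intro a _
      rw [Subgroup.mem_normalizer_iff]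
      intro b
      refine ⟨fun hb => (inferInstance : (Cfsg.pCore p G).Normal).conj_mem b hb a, fun hb => ?_⟩
      have h2 := (inferInstance : (Cfsg.pCore p G).Normal).conj_mem _ hb a⁻¹
      rwa [show a⁻¹ * (a * b * a⁻¹) * a⁻¹⁻¹ = b by group] at h2
    · rintro _ ⟨i, rfl⟩
      exact ((show Commute r (c * v * c⁻¹) from mem_cen.1 (hQ hc)).symm.zpow_right i).eq
    · intro x hx hxr
      exact (T.split hrp (dvd_of_eq hr.symm) (mem_cen.2 (hxr r (Subgroup.mem_zpowers r)))
        (isPEl_of_mem (Cores.pCore_isPGroup p) hx) (hQ hc) hcop).eq.symm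
  intro x hx
  have h2 := h1 _ ((inferInstance : (Cfsg.pCore p G).Normal).conj_mem x hx c)
  change v * x = x * v
  calc v * x = c⁻¹ * (c * v * c⁻¹ * (c * x * c⁻¹)) * c := by group
    _ = c⁻¹ * (c * x * c⁻¹ * (c * v * c⁻¹)) * c := by rw [h2]
    _ = x * v := by group

theorem Two.exists_q_idx_n (T : Two G n m q p) {r : G} (hrp : IsPEl p r) (hr : idx r = m) :
    ∃ x : G, IsPEl q x ∧ idx x = n := by
  obtain ⟨x₀, hx₀⟩ := T.four.exists_n
  obtain ⟨s, x, hs, hxs, hx, -⟩ := T.four.exists_primary hx₀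
  have hxz : x ∉ Subgroup.center G := T.four.noncentral (Or.inl (dvd_of_eq hx.symm))
  rcases T.prime_cases hs hxs hxz with e | e
  · exact ⟨x, e ▸ hxs, hx⟩
  · exact absurd hx (T.no_crossing hrp hr (e ▸ hxs))

/-- `p`-elements commute with `q`-elements, given a `p`-element of class size `m`. -/
theorem Two.commute (T : Two G n m q p) {r : G} (hrp : IsPEl p r) (hr : idx r = m) {t v : G}
    (ht : IsPEl p t) (hv : IsPEl q v) : Commute t v := by
  have : Fact p.Prime := ⟨T.hp⟩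
  have : Fact q.Prime := ⟨T.hq⟩
  obtain ⟨x₀, hx₀q, hx₀⟩ := T.exists_q_idx_n hrp hr
  have hpK : ∀ t : G, IsPEl p t → ∀ x ∈ Cfsg.pCore q G, Commute t x :=
    fun t ht => T.symm.q_centralizes hx₀q hx₀ ht
  have hqR : ∀ v : G, IsPEl q v → ∀ x ∈ Cfsg.pCore p G, Commute v x :=
    fun v hv => T.q_centralizes hrp hr hv
  set M := Subgroup.centralizer (Cfsg.pCore p G : Set G) with hMdef
  haveI : M.Normal := Subgroup.normal_centralizer
  have hqM : ∀ v : G, IsPEl q v → v ∈ M := fun v hv =>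
    Subgroup.mem_centralizer_iff.2 fun x hx => (hqR v hv x hx).eq.symm
  have hpM : ∀ a ∈ M, IsPEl p a → M ≤ cen a := by
    intro a ha hap g hg
    have haR := T.mem_pCore hap
      (fun x hx => (Subgroup.mem_centralizer_iff.1 ha x hx).symm) (hpK a hap)
    exact mem_cen.2 (Subgroup.mem_centralizer_iff.1 hg a haR)
  obtain ⟨Q, -, hQq, -, hQall, -, hQn⟩ := commute_of_centralizes_sylow (p := q) M fun w hw hwq => by
    obtain ⟨S, hS, -, hSc⟩ := exists_psub (p := q) M
    refine ⟨S, hS, hS.trans ?_, hSc⟩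
    intro g hg
    refine mem_cen_comm.1 (pel_of_primes fun s hs b hb hbs => ?_)
    by_cases hbz : b ∈ Subgroup.center G
    · exact mem_cen.2 (Subgroup.mem_center_iff.1 hbz g)
    rcases T.prime_cases hs hbs hbz with e | e
    · exfalso
      subst e
      obtain ⟨j, hj⟩ := hbs
      refine hbz ?_
      rw [orderOf_eq_one_iff.1 (Nat.eq_one_of_dvd_coprimes (hwq.pow_right j)
        (orderOf_dvd_of_mem_zpowers hb) (orderOf_dvd_of_pow_eq_one hj))]
      exact one_mem _
    · subst e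
      exact mem_cen_comm.1 (hpM b (mem_of_mem_zpowers hb hw) hbs hg)
  -- the `q`-elements form a normal subgroup
  have hsub : ∀ g : G, ∀ a ∈ Q, g * a * g⁻¹ ∈ Q := fun g a ha =>
    hQall _ (hqM _ (conj_isPEl (isPEl_of_mem hQq ha) g)) (conj_isPEl (isPEl_of_mem hQq ha) g)
  haveI : Q.Normal := ⟨fun a ha g => hsub g a ha⟩
  exact hpK t ht v (Cores.le_pCore hQq (hQall v (hqM v hv) hv))

/-- `p`-elements commute with `q`-elements. -/
theorem Two.commute_all (T : Two G n m q p) {t v : G} (ht : IsPEl p t) (hv : IsPEl q v) :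
    Commute t v := by
  by_cases h1 : ∃ r : G, IsPEl p r ∧ idx r = m
  · obtain ⟨r, hrp, hr⟩ := h1
    exact T.commute hrp hr ht hv
  by_cases h2 : ∃ r : G, IsPEl q r ∧ idx r = n
  · obtain ⟨r, hrq, hr⟩ := h2
    exact (T.symm.commute hrq hr hv ht).symm
  refine (Cross.absurd (n := n) (m := m) (p := p) (q := q) ⟨T, fun a ha haz => ?_,
    fun a ha haz => ?_⟩).elim
  · rcases T.four.cases haz with e | e | e
    · exact dvd_of_eq e.symm
    · exact absurd ⟨a, ha, e⟩ h1
    · exact e ▸ Dvd.intro m rfl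
  · rcases T.four.cases haz with e | e | e
    · exact absurd ⟨a, ha, e⟩ h2
    · exact dvd_of_eq e.symm
    · exact e ▸ Dvd.intro_left n rfl

/-- `G` is nilpotent. -/
theorem Two.nilpotent (T : Two G n m q p) : Group.IsNilpotent G := by
  rw [Group.isNilpotent_of_finite_tfae.out 0 3 rfl rfl]
  intro s hs P
  have hcomm : ∀ (l : ℕ), l.Prime → l ≠ s → ∀ b : G, IsPEl l b → ∀ a ∈ (P : Subgroup G),
      Commute b a := by
    intro l hl hls b hb a ha
    by_cases hbz : b ∈ Subgroup.center G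
    · exact (Subgroup.mem_center_iff.1 hbz a).symm
    by_cases haz : a ∈ Subgroup.center G
    · exact Subgroup.mem_center_iff.1 haz b
    have hap := isPEl_of_mem P.2 ha
    rcases T.prime_cases hl hb hbz with e | e <;> rcases T.prime_cases hs.out hap haz with e' | e'
    · exact absurd (e.trans e'.symm) hls
    · exact (T.commute_all (e' ▸ hap) (e ▸ hb)).symm
    · exact T.commute_all (e ▸ hb) (e' ▸ hap)
    · exact absurd (e.trans e'.symm) hls
  rw [← Subgroup.normalizer_eq_top_iff, ← Subgroup.index_eq_one]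
  refine Nat.eq_one_iff_not_exists_prime_dvd.2 fun l hl hdvd => ?_
  have : Fact l.Prime := ⟨hl⟩
  by_cases hls : l = s
  · subst hls
    exact not_dvd_of_sylow_le P Subgroup.le_normalizer hdvd
  obtain ⟨L⟩ : Nonempty (Sylow l G) := inferInstance
  refine not_dvd_of_sylow_le L (fun b hb => ?_) hdvd
  exact Subgroup.centralizer_le_normalizer _ (Subgroup.mem_centralizer_iff.2 fun a ha =>
    (hcomm l hl hls b (isPEl_of_mem L.2 hb) a ha).eq.symm)

/-- Class sizes `{1, n, m, n * m}` with coprime `n, m > 1`. -/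
theorem Four.conclusion (S : Four G n m) : Group.IsNilpotent G ∧ IsPrimePow n ∧ IsPrimePow m := by
  obtain ⟨p, hp, hpm, hup⟩ := S.unique_prime
  obtain ⟨q, hq, hqn, huq⟩ := S.symm.unique_prime
  exact ⟨Two.nilpotent ⟨S, hq, hp, hqn, hpm, huq, hup⟩, S.symm.isPrimePow, S.isPrimePow⟩

end Cfsg.Agent.Lib.ClassSizesFour21
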