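import Cfsg.Agent.Lib.ClassSizesFour21.Basic
import Cfsg.Agent.Lib.TwoPRegular.Main

/-!
# Class sizes `{1, n, m, n * m}` with `n, m` coprime: `n` and `m` are prime powers
-/

set_option autoImplicit false

namespace Cfsg.Agent.Lib.ClassSizesFour21

open Cfsg.Agent.Lib.ClassSizes.Basic Cfsg.Agent.Lib.ClassSizes.CopTools

variable {G : Type*} [Group G] [Finite G] {n m : ℕ}

/-- The three possibilities for the centralizer of a `p`-element with class of size `n`. -/
theorem Four.dicho (S : Four G n m) {p : ℕ} [hp : Fact p.Prime] {x : G} (hxp : IsPEl p x)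
    (hx : idx x = n) :
    (∀ v ∈ cen x, (orderOf v).Coprime p → cen x ≤ cen v) ∨ (∀ r : ℕ, r.Prime → r ∣ m → r = p) ∨
      ∃ q : ℕ, q.Prime ∧ q ≠ p ∧ (∀ r : ℕ, r.Prime → r ∣ m → r = p ∨ r = q) ∧
        (∀ r : ℕ, r.Prime → r ≠ p → r ≠ q → ∀ v ∈ cen x, IsPEl r v → cen x ≤ cen v) ∧
        ∃ v ∈ cen x, IsPEl q v ∧ idx (x * v) = n * m := by
  classical
  by_cases hA : ∀ v ∈ cen x, (orderOf v).Coprime p → cen x ≤ cen v
  · exact Or.inl hA
  push Not at hA
  obtain ⟨v₀, hv₀, hv₀p, hv₀n⟩ := hA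
  have hcen : ∀ v : cen x,
      Subgroup.centralizer ({v} : Set (cen x)) = (cen (v : G)).subgroupOf (cen x) := by
    intro v
    ext w
    rw [Subgroup.mem_subgroupOf, mem_cen, mem_cen]
    exact ⟨fun h => congrArg Subtype.val h, fun h => Subtype.ext h⟩
  have hiff : ∀ v : cen x, v ∈ Subgroup.center (cen x) ↔ cen x ≤ cen (v : G) := by
    intro v
    rw [Subgroup.mem_center_iff]
    exact ⟨fun h w hw => mem_cen.2 (congrArg Subtype.val (h ⟨w, hw⟩)).symm,
      fun h w => Subtype.ext (mem_cen.1 (h w.2)).symm⟩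
  have hSet : TwoPRegular.Setup p (cen x) m := by
    refine ⟨hp.out, fun v hv hvz => ?_⟩
    have hcop : (orderOf x).Coprime (orderOf (v : G)) := by
      rw [Subgroup.orderOf_coe]
      exact hxp.coprime hp.out hv.symm
    have h1 := (S.extend hx v.2 hcop).resolve_left fun h => hvz ((hiff v).2 h)
    change (Subgroup.centralizer ({v} : Set (cen x))).index = m
    rw [hcen]
    change (cen (v : G)).relIndex (cen x) = m
    have e := cen_mul (show Commute x v from mem_cen.1 v.2) hcop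
    have h2 := Subgroup.relIndex_mul_index (inf_le_left : cen x ⊓ cen (v : G) ≤ cen x)
    rw [Subgroup.inf_relIndex_left, ← e] at h2
    change (cen (v : G)).relIndex (cen x) * idx x = idx (x * (v : G)) at h2
    rw [h1, hx, Nat.mul_comm n m] at h2
    exact Nat.eq_of_mul_eq_mul_right (by have := S.one_lt_n; omega) h2
  let w₀ : cen x := ⟨v₀, hv₀⟩
  have hw₀ : TwoPRegular.Reg p w₀ := by
    change (orderOf w₀).Coprime p
    rwa [← Subgroup.orderOf_coe]
  have hw₀z : w₀ ∉ Subgroup.center (cen x) := fun h => hv₀n ((hiff w₀).1 h)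
  by_cases T : TwoPRegular.TwoAct p (cen x)
  · exact Or.inr (Or.inl fun r hr hrm => TwoPRegular.eq_of_dvd_index hSet T hw₀ hw₀z hr hrm)
  simp only [TwoPRegular.TwoAct] at T
  push Not at T
  obtain ⟨q, hq⟩ := T
  have hact : ∀ r : ℕ, r.Prime → r ≠ p → ∀ v ∈ cen x, IsPEl r v → ¬ cen x ≤ cen v → r = q := by
    intro r hr hrp v hv hvr hn
    obtain ⟨k, hk⟩ := hvr
    obtain ⟨j, hj⟩ := Lib.Elem70.orderOf_eq_pow_of_pow_eq_one hr hk
    exact hq r ⟨hr, hrp, ⟨v, hv⟩, fun h => hn ((hiff ⟨v, hv⟩).1 h), j,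
      by rw [Subgroup.orderOf_mk]; exact hj⟩
  obtain ⟨r, u, hr, hu, huz, hur⟩ := exists_primary_notMem hw₀z
  have hur' : IsPEl r (u : G) := hur.imp fun k hk => congrArg Subtype.val hk
  have hun : ¬ cen x ≤ cen (u : G) := fun h => huz ((hiff u).2 h)
  have hrp : r ≠ p := by
    rintro rfl
    obtain ⟨k, hk⟩ := hur
    refine huz ?_
    rw [orderOf_eq_one_iff.1 (Nat.eq_one_of_dvd_coprimes (hw₀.pow_right k)
      (orderOf_dvd_of_mem_zpowers hu) (orderOf_dvd_of_pow_eq_one hk))]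
    exact one_mem _
  obtain rfl := hact r hr hrp u u.2 hur' hun
  refine Or.inr (Or.inr ⟨r, hr, hrp, fun s hs hsm => ?_, fun s hs hsp hsr v hv hvs => ?_,
    u, u.2, hur', ?_⟩)
  · by_cases hsp : s = p
    · exact Or.inl hsp
    · exact Or.inr (hq s (TwoPRegular.act_of_dvd hSet hw₀ hw₀z hs hsp hsm))
  · by_contra hn
    exact hsr (hact s hs hsp v hv hvs hn)
  · exact (S.extend hx u.2 (hxp.coprime_orderOf hp.out hr hrp.symm hur')).resolve_left hun

/-- A Sylow subgroup for a prime not dividing the class size of `x` centralises `x`. -/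
theorem exists_sylow_cen {r : ℕ} [Fact r.Prime] {x : G} (h : ¬ r ∣ idx x) :
    ∃ R : Sylow r G, (R : Subgroup G) ≤ cen x := exists_sylow_le h

/-- Some conjugate of an `r`-element lies in any given Sylow `r`-subgroup. -/
theorem exists_conj_mem {r : ℕ} [Fact r.Prime] {a : G} (ha : IsPEl r a) (R : Sylow r G) :
    ∃ c : G, c * a * c⁻¹ ∈ (R : Subgroup G) := by
  obtain ⟨R', hR'⟩ := (ha.isPGroup Fact.out).exists_le_sylow
  obtain ⟨c, hc⟩ := MulAction.exists_smul_eq G R' R
  refine ⟨c, ?_⟩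
  rw [← hc, Sylow.coe_subgroup_smul]
  exact Subgroup.smul_mem_pointwise_smul _ (MulAut.conj c) _ (hR' (Subgroup.mem_zpowers a))

/-- The centralizer of a `p`-element with class size `n`, `p ∣ n`, has a `p'`-element that is
not central in it. -/
theorem Four.not_A (S : Four G n m) {p : ℕ} [hp : Fact p.Prime] {x : G} (hxp : IsPEl p x)
    (hx : idx x = n) (hpn : p ∣ n) : ¬ ∀ v ∈ cen x, (orderOf v).Coprime p → cen x ≤ cen v := by
  intro hA
  obtain ⟨r, hr, hrm⟩ := Nat.exists_prime_and_dvd (show m ≠ 1 by have := S.one_lt_m; omega)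
  have : Fact r.Prime := ⟨hr⟩
  have hrp : r ≠ p := fun e => S.not_prime_dvd hp.out hpn (e ▸ hrm)
  have hrx : ¬ r ∣ idx x := hx ▸ S.symm.not_prime_dvd hr hrm
  obtain ⟨R, hR⟩ := exists_sylow_cen hrx
  obtain ⟨g, hg⟩ := S.exists_m
  obtain ⟨w, hwR, hwz⟩ := SetLike.not_le_iff_exists.1
    ((exists_dvd_iff R).1 ⟨g, by change r ∣ idx g; rw [hg]; exact hrm⟩)
  have hwr : IsPEl r w := isPEl_of_mem R.2 hwR
  have hxw : cen x ≤ cen w := hA w (hR hwR) (hwr.coprime hr ((Nat.coprime_primes hr hp.out).2 hrp))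
  have hw : idx w = n := S.idx_eq_of_le hxw hx hwz
  have hcxw : cen x = cen w := cen_eq_of_le_idx hxw (hw.trans hx.symm)
  obtain ⟨y₀, hy₀⟩ := S.exists_m
  obtain ⟨s, y, hs, hys, hy, -⟩ := S.symm.exists_primary hy₀
  have : Fact s.Prime := ⟨hs⟩
  have hyz : y ∉ Subgroup.center G := S.noncentral (Or.inr (dvd_of_eq hy.symm))
  -- a conjugate of `y` centralising `x`
  obtain ⟨c, hc⟩ : ∃ c : G, c * y * c⁻¹ ∈ cen x := by
    by_cases hsm : s ∣ m
    · obtain ⟨S', hS'⟩ := exists_sylow_cen (r := s) (x := x) (hx ▸ S.symm.not_prime_dvd hs hsm)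
      obtain ⟨c, hc⟩ := exists_conj_mem hys S'
      exact ⟨c, hS' hc⟩
    · obtain ⟨P, hP⟩ := exists_sylow_cen (r := p) (x := y) (hy ▸ S.not_prime_dvd hp.out hpn)
      obtain ⟨c, hc⟩ := exists_conj_mem hxp P
      refine ⟨c⁻¹, ?_⟩
      rw [inv_inv]
      have h1 := mem_cen_comm.1 (hP hc)
      rw [mem_cen_conj] at h1
      exact h1
  set y' := c * y * c⁻¹ with hy'
  have hy'i : idx y' = m := (conj_idx c y).trans hy
  have hy's : IsPEl s y' := conj_isPEl hys c
  have hy'z : y' ∉ Subgroup.center G := conj_noncentral hyz c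
  have hno : ¬ cen x ≤ cen y' := fun h => by
    have h1 := S.idx_eq_of_le h hx hy'z
    rw [hy'i] at h1
    exact S.not_dvd (dvd_of_eq h1.symm)
  by_cases hsp : s = p
  · subst hsp
    have hyw : y' ∈ cen w := hcxw ▸ hc
    have hcop := hwr.coprime_orderOf hr hs hrp hy's
    have h1 := (S.extend hw hyw hcop).resolve_left fun h => hno (hcxw ▸ h)
    have hRc : (R : Subgroup G) ≤ cen (w * y') := by
      rw [cen_mul (show Commute w y' from mem_cen.1 hyw) hcop]
      intro a ha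
      have ha' : (orderOf a).Coprime s :=
        (isPEl_of_mem R.2 ha).coprime hr ((Nat.coprime_primes hr hs).2 hrp)
      exact ⟨hcxw ▸ hR ha, mem_cen_comm.1 (hA a (hR ha) ha' hc)⟩
    refine not_dvd_of_sylow_le R hRc ?_
    change r ∣ idx (w * y')
    rw [h1]
    exact hrm.mul_left n
  · exact hno (hA y' hc (hy's.coprime hs ((Nat.coprime_primes hs hp.out).2 hsp)))

/-- The prime of an element of class size `n` divides `n`: then `m` is a prime power. -/
theorem Four.stepI (S : Four G n m) {p : ℕ} [hp : Fact p.Prime] {x : G} (hxp : IsPEl p x)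
    (hx : idx x = n) (hpn : p ∣ n) : ∃ q : ℕ, ∀ r : ℕ, r.Prime → r ∣ m → r = q := by
  rcases S.dicho hxp hx with hA | hB | ⟨q, -, -, hq, -⟩
  · exact absurd hA (S.not_A hxp hx hpn)
  · exact ⟨p, hB⟩
  · exact ⟨q, fun r hr hrm => (hq r hr hrm).resolve_left fun e =>
      S.not_prime_dvd hp.out hpn (e ▸ hrm)⟩

/-- No element of class size `n` has a prime dividing `n`: then `m` is a prime power. -/
theorem Four.stepII (S : Four G n m)
    (hno : ∀ (p : ℕ) (x : G), p.Prime → IsPEl p x → idx x = n → ¬ p ∣ n) :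
    ∃ q : ℕ, ∀ r : ℕ, r.Prime → r ∣ m → r = q := by
  obtain ⟨x₀, hx₀⟩ := S.exists_n
  obtain ⟨p, x, hp, hxp, hx, -⟩ := S.exists_primary hx₀
  have : Fact p.Prime := ⟨hp⟩
  have hpn : ¬ p ∣ n := hno p x hp hxp hx
  by_contra hcon
  push Not at hcon
  obtain ⟨r₀, hr₀, hr₀m, hr₀p⟩ := hcon p
  -- the `π(n)`-elements of `C(x)` are central
  have hstar : ∀ s : ℕ, s.Prime → s ∣ n → ∀ v ∈ cen x, IsPEl s v → v ∈ Subgroup.center G := by
    intro s hs hsn v hv hvs
    have hsp : s ≠ p := fun e => hpn (e ▸ hsn)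
    have hle : cen x ≤ cen v := by
      rcases S.dicho hxp hx with hA | hB | ⟨q, -, -, hq, hother, -⟩
      · exact hA v hv (hvs.coprime hs ((Nat.coprime_primes hs hp).2 hsp))
      · exact absurd (hB r₀ hr₀ hr₀m) hr₀p
      · refine hother s hs hsp (fun e => ?_) v hv hvs
        have hr₀q := (hq r₀ hr₀ hr₀m).resolve_left hr₀p
        exact S.not_prime_dvd hs hsn (e.trans hr₀q.symm ▸ hr₀m)
    by_contra hvz
    exact hno s v hs hvs (S.idx_eq_of_le hle hx hvz) hsn
  have hstar' : ∀ g : G, n ∣ idx g → ∀ s : ℕ, s.Prime → s ∣ n → ∀ v ∈ cen g, IsPEl s v →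
      v ∈ Subgroup.center G := by
    intro g hg s hs hsn v hv hvs
    have : Fact s.Prime := ⟨hs⟩
    exact S.central_transfer hsn (dvd_of_eq hx.symm) hg (hstar s hs hsn) hv hvs
  -- an element of class size `m` with a prime dividing `m`
  obtain ⟨r, w, hr, hrm, hwr, hw⟩ : ∃ (r : ℕ) (w : G), r.Prime ∧ r ∣ m ∧ IsPEl r w ∧ idx w = m := by
    obtain ⟨y₀, hy₀⟩ := S.exists_m
    obtain ⟨s, y, hs, hys, hy, -⟩ := S.symm.exists_primary hy₀
    have hyz : y ∉ Subgroup.center G := S.noncentral (Or.inr (dvd_of_eq hy.symm))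
    rcases S.prime_dvd hs hys hyz with hsn | hsm
    · obtain ⟨r, hr, hrm, w, hwy, hwr, hwz⟩ : ∃ (r : ℕ), r.Prime ∧ r ∣ m ∧
          ∃ w ∈ cen y, IsPEl r w ∧ w ∉ Subgroup.center G := by
        by_contra hnw
        push Not at hnw
        obtain ⟨z, hz⟩ := S.exists_nm
        obtain ⟨l, a, hl, haz, ha, hal⟩ := exists_primary_notMem (C := Subgroup.center G)
          (S.noncentral (x := z) (Or.inl (hz ▸ Dvd.intro m rfl)))
        have hac : a ∈ cen z := mem_of_mem_zpowers haz (self_mem_cen z)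
        have : Fact l.Prime := ⟨hl⟩
        rcases S.prime_dvd hl hal ha with hln | hlm
        · exact ha (hstar' z (hz ▸ Dvd.intro m rfl) l hl hln a hac hal)
        · exact ha (S.symm.central_transfer hlm (dvd_of_eq hy.symm) (hz ▸ Dvd.intro_left n rfl)
            (fun v hv hvl => hnw l hl hlm v hv hvl) hac hal)
      refine ⟨r, w, hr, hrm, hwr, ?_⟩
      have hsr : s ≠ r := fun e => S.not_prime_dvd hs hsn (e ▸ hrm)
      have hcop := hys.coprime_orderOf hs hr hsr hwr
      rcases S.symm.extend hy hwy hcop with h | h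
      · exact S.symm.idx_eq_of_le h hy hwz
      · exfalso
        refine hyz (hstar' (y * w) (h ▸ Dvd.intro_left m rfl) s hs hsn y ?_ hys)
        rw [cen_mul (show Commute y w from mem_cen.1 hwy) hcop]
        exact ⟨self_mem_cen y, mem_cen_comm.1 hwy⟩
    · exact ⟨s, y, hs, hsm, hys, hy⟩
  have : Fact r.Prime := ⟨hr⟩
  obtain ⟨s, hs, hsn⟩ := Nat.exists_prime_and_dvd (show n ≠ 1 by have := S.one_lt_n; omega)
  have hsr : s ≠ r := fun e => S.not_prime_dvd hs hsn (e ▸ hrm)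
  rcases S.symm.dicho hwr hw with hA | hB | ⟨q, hq', hqr, hq, -, v, hv, hvq, hwv⟩
  · exact S.symm.not_A hwr hw hrm hA
  · exact hsr (hB s hs hsn)
  · obtain rfl := (hq s hs hsn).resolve_left hsr
    have hcop := hwr.coprime_orderOf hr hs hsr.symm hvq
    have hc : Commute w v := mem_cen.1 hv
    have e := cen_mul hc hcop
    have hvz : v ∉ Subgroup.center G := fun h => by
      have h1 : cen (w * v) = cen w := cen_mul_center h
      have h2 : idx (w * v) = idx w := by simp only [idx, h1]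
      rw [hwv, hw] at h2
      exact S.symm.n_ne_nm h2
    exact hvz (hstar' (w * v) (hwv ▸ Dvd.intro_left m rfl) s hs hsn v
      (e.ge ⟨hv, self_mem_cen v⟩) hvq)

/-- `m` is divisible by a single prime. -/
theorem Four.unique_prime (S : Four G n m) :
    ∃ q : ℕ, q.Prime ∧ q ∣ m ∧ ∀ r : ℕ, r.Prime → r ∣ m → r = q := by
  obtain ⟨q, hq, hqm⟩ := Nat.exists_prime_and_dvd (show m ≠ 1 by have := S.one_lt_m; omega)
  refine ⟨q, hq, hqm, fun r hr hrm => ?_⟩
  obtain ⟨t, ht⟩ : ∃ t : ℕ, ∀ r : ℕ, r.Prime → r ∣ m → r = t := by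
    by_cases h : ∃ (p : ℕ) (x : G), p.Prime ∧ IsPEl p x ∧ idx x = n ∧ p ∣ n
    · obtain ⟨p, x, hp, hxp, hx, hpn⟩ := h
      have : Fact p.Prime := ⟨hp⟩
      exact S.stepI hxp hx hpn
    · push Not at h
      exact S.stepII h
  exact (ht r hr hrm).trans (ht q hq hqm).symm

theorem Four.isPrimePow (S : Four G n m) : IsPrimePow m := by
  obtain ⟨q, hq, hqm, hu⟩ := S.unique_prime
  have hm0 : m ≠ 0 := by have := S.one_lt_m; omega
  have h1 := Nat.eq_prime_pow_of_unique_prime_dvd hm0 fun {d} hd hdm => hu d hd hdm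
  refine (isPrimePow_nat_iff _).2 ⟨q, m.primeFactorsList.length, hq, ?_, h1.symm⟩
  rcases Nat.eq_zero_or_pos m.primeFactorsList.length with h | h
  · have := S.one_lt_m
    rw [h1, h, pow_zero] at this
    omega
  · exact h

end Cfsg.Agent.Lib.ClassSizesFour21
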