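import Cfsg.Agent.Lib.ClassSizesFour21.PrimePower
import Cfsg.Agent.Lib.Cores.Basic
import Cfsg.Agent.Lib.Classif.PTimesQ
import Cfsg.Agent.Lib.Induced.Burnside
import Cfsg.Prelude.Def_Local

/-!
# Class sizes `{1, q ^ a, p ^ b, q ^ a * p ^ b}`: tools
-/

set_option autoImplicit false

namespace Cfsg.Agent.Lib.ClassSizesFour21

open Cfsg.Agent.Lib.ClassSizes.Basic Cfsg.Agent.Lib.ClassSizes.CopTools

variable {G : Type*} [Group G] {n m p q : ℕ}

/-- Class sizes as in `Four`, with `n` a power of `q` and `m` a power of `p`. -/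
structure Two (G : Type*) [Group G] (n m q p : ℕ) : Prop where
  four : Four G n m
  hq : q.Prime
  hp : p.Prime
  qn : q ∣ n
  pm : p ∣ m
  only_q : ∀ r : ℕ, r.Prime → r ∣ n → r = q
  only_p : ∀ r : ℕ, r.Prime → r ∣ m → r = p

theorem Two.symm (T : Two G n m q p) : Two G m n p q :=
  ⟨T.four.symm, T.hp, T.hq, T.pm, T.qn, T.only_p, T.only_q⟩

theorem Two.p_ne_q (T : Two G n m q p) : p ≠ q := fun e =>
  T.four.not_prime_dvd T.hq T.qn (e ▸ T.pm)

theorem Two.p_not_dvd_n (T : Two G n m q p) : ¬ p ∣ n := fun h =>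
  T.four.not_prime_dvd T.hp h T.pm

theorem Two.q_not_dvd_m (T : Two G n m q p) : ¬ q ∣ m := T.four.not_prime_dvd T.hq T.qn

theorem Two.n_eq (T : Two G n m q p) : n = q ^ n.factorization q := by
  have h0 : n ≠ 0 := by have := T.four.one_lt_n; omega
  have h1 := Nat.eq_prime_pow_of_unique_prime_dvd h0 fun {d} hd hdn => T.only_q d hd hdn
  conv_lhs => rw [h1]
  conv_rhs => rw [h1, Nat.factorization_pow, T.hq.factorization]
  simp

theorem isPEl_one (r : ℕ) : IsPEl r (1 : G) := ⟨0, one_pow _⟩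

theorem move_not_center {r : ℕ} (hr : r.Prime) {A : Subgroup G} (hA : IsPGroup r A) {t a : G}
    (hta : t * a * t⁻¹ ∈ A) (ha : a ∈ A) (ht : (orderOf t).Coprime r)
    (hz : a⁻¹ * (t * a * t⁻¹) ∈ Subgroup.center G) : Commute t a := by
  set z := a⁻¹ * (t * a * t⁻¹) with hzdef
  have e : t * a * t⁻¹ = a * z := by rw [hzdef]; group
  have hcz : ∀ g : G, Commute g z := fun g => Subgroup.mem_center_iff.1 hz g
  have key : ∀ k : ℕ, t ^ k * a * (t ^ k)⁻¹ = a * z ^ k := by
    intro k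
    induction k with
    | zero => simp
    | succ k ih =>
      calc t ^ (k + 1) * a * (t ^ (k + 1))⁻¹ = t * (t ^ k * a * (t ^ k)⁻¹) * t⁻¹ := by
            rw [pow_succ']; group
        _ = t * (a * z ^ k) * t⁻¹ := by rw [ih]
        _ = (t * a * t⁻¹) * (t * z ^ k * t⁻¹) := by group
        _ = a * z * z ^ k := by rw [e, ((hcz t).pow_right k).eq, mul_inv_cancel_right]
        _ = a * z ^ (k + 1) := by rw [mul_assoc, pow_succ']
  have h1 : z ^ orderOf t = 1 := by
    have := key (orderOf t)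
    rw [pow_orderOf_eq_one] at this
    simpa using this
  obtain ⟨k, hk⟩ := isPEl_of_mem hA (A.mul_mem (A.inv_mem ha) hta)
  have h2 : z = 1 := orderOf_eq_one_iff.1 (Nat.eq_one_of_dvd_coprimes (ht.pow_right k)
    (orderOf_dvd_of_pow_eq_one h1) (orderOf_dvd_of_pow_eq_one hk))
  change t * a = a * t
  rw [h2, mul_one] at e
  exact mul_inv_eq_iff_eq_mul.1 e

/-- An element `t` of `H` cannot both fix and move noncentral elements of `A`, if the groups
`H ⊓ C(a)`, `a ∈ A` noncentral, are minimal among each other. -/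
theorem fixed_or_moved_false {A H : Subgroup G} (hAc : ∀ a ∈ A, ∀ b ∈ A, Commute a b) {t : G}
    (htH : t ∈ H) (hAn : ∀ a ∈ A, t * a * t⁻¹ ∈ A)
    (hgt : ∀ g ∈ H, ∀ a ∈ A, g * (t * a * t⁻¹) * g⁻¹ = t * (g * a * g⁻¹) * t⁻¹)
    (hmax : ∀ a ∈ A, ∀ b ∈ A, a ∉ Subgroup.center G → b ∉ Subgroup.center G →
      H ⊓ cen a ≤ H ⊓ cen b → H ⊓ cen b ≤ H ⊓ cen a)
    {a₀ a₁ : G} (ha₀ : a₀ ∈ A) (ha₀z : a₀ ∉ Subgroup.center G) (ha₀t : Commute t a₀)
    (ha₁ : a₁ ∈ A) (hφ : a₁⁻¹ * (t * a₁ * t⁻¹) ∉ Subgroup.center G) : False := by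
  set φ := a₁⁻¹ * (t * a₁ * t⁻¹) with hφdef
  have hφA : φ ∈ A := A.mul_mem (A.inv_mem ha₁) (hAn a₁ ha₁)
  have ht₀ : t * a₀ * t⁻¹ = a₀ := by rw [ha₀t.eq, mul_inv_cancel_right]
  set u := a₀ * a₁ with hudef
  have huA : u ∈ A := A.mul_mem ha₀ ha₁
  have hφu : u⁻¹ * (t * u * t⁻¹) = φ := by
    calc u⁻¹ * (t * u * t⁻¹) = a₁⁻¹ * (a₀⁻¹ * (t * a₀ * t⁻¹)) * (t * a₁ * t⁻¹) := by
          rw [hudef]; group
      _ = φ := by rw [ht₀, inv_mul_cancel, mul_one]
  have huz : u ∉ Subgroup.center G := fun hz => hφ (by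
    rw [← hφu, Subgroup.mem_center_iff.1 hz t, mul_inv_cancel_right, inv_mul_cancel]
    exact one_mem _)
  have ha₁z : a₁ ∉ Subgroup.center G := fun hz => hφ (by
    rw [hφdef, Subgroup.mem_center_iff.1 hz t, mul_inv_cancel_right, inv_mul_cancel]
    exact one_mem _)
  have hfix : ∀ g ∈ H, ∀ a ∈ A, g * a * g⁻¹ = a →
      g * (a⁻¹ * (t * a * t⁻¹)) * g⁻¹ = a⁻¹ * (t * a * t⁻¹) := by
    intro g hg a ha h
    calc g * (a⁻¹ * (t * a * t⁻¹)) * g⁻¹ = (g * a * g⁻¹)⁻¹ * (g * (t * a * t⁻¹) * g⁻¹) := by group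
      _ = a⁻¹ * (t * a * t⁻¹) := by rw [hgt g hg a ha, h]
  have hcenfix : ∀ {g a : G}, g ∈ cen a ↔ g * a * g⁻¹ = a := by
    intro g a
    rw [mem_cen]
    exact ⟨fun h => by rw [← h, mul_inv_cancel_right],
      fun h => (mul_inv_eq_iff_eq_mul.1 h).symm⟩
  have h1 : H ⊓ cen u ≤ H ⊓ cen φ := fun g hg =>
    ⟨hg.1, hcenfix.2 (hφu ▸ hfix g hg.1 u huA (hcenfix.1 hg.2))⟩
  have h2 : H ⊓ cen a₁ ≤ H ⊓ cen φ := fun g hg =>
    ⟨hg.1, hcenfix.2 (hfix g hg.1 a₁ ha₁ (hcenfix.1 hg.2))⟩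
  have h3 : H ⊓ cen φ ≤ H ⊓ cen a₁ := hmax a₁ ha₁ φ hφA ha₁z hφ h2
  have h4 : H ⊓ cen φ ≤ H ⊓ cen u := hmax u huA φ hφA huz hφ h1
  have h5 : H ⊓ cen a₁ ≤ H ⊓ cen a₀ := fun g hg => by
    have hg1 := hcenfix.1 hg.2
    have hgu := hcenfix.1 (h4 (h2 hg)).2
    refine ⟨hg.1, hcenfix.2 ?_⟩
    calc g * a₀ * g⁻¹ = (g * u * g⁻¹) * (g * a₁ * g⁻¹)⁻¹ := by rw [hudef]; group
      _ = a₀ := by rw [hgu, hg1, hudef, mul_inv_cancel_right]
  have h6 : t ∈ cen a₁ := (hmax a₁ ha₁ a₀ ha₀ ha₁z ha₀z h5 ⟨htH, mem_cen.2 ha₀t.eq.symm⟩).2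
  exact hφ (by rw [hφdef, hcenfix.1 h6, inv_mul_cancel]; exact one_mem _)

variable [Finite G]

theorem pel_of_primes {K : Subgroup G} {x : G}
    (h : ∀ r : ℕ, r.Prime → ∀ a ∈ Subgroup.zpowers x, IsPEl r a → a ∈ K) : x ∈ K := by
  by_contra hx
  obtain ⟨r, a, hr, hax, haK, har⟩ := exists_primary_notMem hx
  exact haK (h r hr a hax har)

theorem Two.prime_cases (T : Two G n m q p) {r : ℕ} (hr : r.Prime) {a : G} (ha : IsPEl r a)
    (haz : a ∉ Subgroup.center G) : r = q ∨ r = p :=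
  (T.four.prime_dvd hr ha haz).imp (T.only_q r hr) (T.only_p r hr)

theorem Two.factorization_idx_le (T : Two G n m q p) (x : G) :
    (idx x).factorization p ≤ m.factorization p := by
  have hn0 : n ≠ 0 := by have := T.four.one_lt_n; omega
  have hm0 : m ≠ 0 := by have := T.four.one_lt_m; omega
  rcases T.four.mem x with e | e | e | e
  · simp [e]
  · simp [e, Nat.factorization_eq_zero_of_not_dvd T.p_not_dvd_n]
  · rw [e]
  · rw [e]; simp [Nat.factorization_mul hn0 hm0, Nat.factorization_eq_zero_of_not_dvd T.p_not_dvd_n]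

/-- If the `p`-part of the class size of `t` is full, an element of `C(t)` of order prime to that
of `t` centralises a subgroup of `C(t)` of full `p`-order. -/
theorem Two.exists_full (T : Two G n m q p) {t w : G} (ht : m ∣ idx t) (hw : w ∈ cen t)
    (hcop : (orderOf t).Coprime (orderOf w)) :
    ∃ Q : Subgroup G, Q ≤ cen t ∧ Q ≤ cen w ∧ IsPGroup p Q ∧
      Nat.card Q = p ^ (Nat.card (cen t)).factorization p := by
  have : Fact p.Prime := ⟨T.hp⟩
  have e := cen_mul (show Commute t w from mem_cen.1 hw) hcop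
  obtain ⟨Q, hQ, hQp, hQc⟩ := exists_psub (p := p) (cen (t * w))
  have hle : cen (t * w) ≤ cen t := e.le.trans inf_le_left
  refine ⟨Q, hQ.trans hle, hQ.trans (e.le.trans inf_le_right), hQp, ?_⟩
  rw [hQc]
  congr 1
  have h1 := factorization_add (t * w) p
  have h2 := factorization_add t p
  have h3 := T.factorization_idx_le (t * w)
  rw [T.four.symm.factorization_idx ht T.hp T.pm] at h2
  have h4 : (Nat.card (cen (t * w))).factorization p ≤ (Nat.card (cen t)).factorization p :=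
    (Nat.factorization_le_iff_dvd Nat.card_pos.ne' Nat.card_pos.ne').2
      (Subgroup.card_dvd_of_le hle) p
  omega

/-- A `p`-element with `p`-part of class size full: `C(t)` splits. -/
theorem Two.split (T : Two G n m q p) {t : G} (htp : IsPEl p t) (ht : m ∣ idx t) {u v : G}
    (hu : u ∈ cen t) (hup : IsPEl p u) (hv : v ∈ cen t) (hvp : (orderOf v).Coprime p) :
    Commute u v := by
  have : Fact p.Prime := ⟨T.hp⟩
  obtain ⟨P, -, -, -, hPall, hPc, -⟩ := commute_of_centralizes_sylow (p := p) (cen t)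
    fun w hw hwp => by
      obtain ⟨Q, h1, h2, -, h4⟩ := T.exists_full ht hw (htp.coprime T.hp hwp.symm)
      exact ⟨Q, h1, h2, h4⟩
  exact hPc u (hPall u hu hup) v hv hvp

/-- A `p`-element in the centralizer of a `q`-element of full `p`-part centralises `O_p(G)`. -/
theorem Two.centralizes_pCore (T : Two G n m q p) {v t : G} (hvq : IsPEl q v) (hv : m ∣ idx v)
    (ht : t ∈ cen v) (htp : IsPEl p t) (hR : Cfsg.pCore p G ≤ cen v) {r : G}
    (hr : r ∈ Cfsg.pCore p G) : Commute t r := by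
  have : Fact p.Prime := ⟨T.hp⟩
  obtain ⟨Q, hQv, hQt, hQp, hQc⟩ := T.exists_full hv ht
    (hvq.coprime_orderOf T.hq T.hp T.p_ne_q.symm htp)
  have hp' : IsPGroup p (Q ⊔ Cfsg.pCore p G : Subgroup G) :=
    hQp.to_sup_of_normal_right (Cores.pCore_isPGroup p)
  have hle : Q ⊔ Cfsg.pCore p G ≤ cen v := sup_le hQv hR
  have heq : Q = Q ⊔ Cfsg.pCore p G := by
    refine Subgroup.eq_of_le_of_card_ge le_sup_left ?_
    rw [hQc]
    exact Lib.TwoClassSizes.card_le_ordProj hp' hle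
  exact mem_cen.1 (hQt (heq ▸ Subgroup.mem_sup_right hr : r ∈ Q))

theorem mem_pCore_of_fitting {r : ℕ} [Fact r.Prime] {x : G} (hx : x ∈ Cfsg.fittingSubgroup G)
    (hr : IsPEl r x) : x ∈ Cfsg.pCore r G := by
  set F := Cfsg.fittingSubgroup G with hF
  have hnil : Group.IsNilpotent F := Cores.fittingSubgroup_isNilpotent
  have hP : IsPEl r (⟨x, hx⟩ : F) := hr.imp fun k hk => Subtype.ext hk
  obtain ⟨P, hP'⟩ := (hP.isPGroup Fact.out).exists_le_sylow
  haveI hPn : (P : Subgroup F).Normal := inferInstance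
  haveI := P.characteristic_of_normal hPn
  haveI := Cores.normal_map_subtype F (P : Subgroup F)
  exact Cores.le_pCore (P.isPGroup'.map _)
    (Subgroup.mem_map_of_mem F.subtype (hP' (Subgroup.mem_zpowers _)))

theorem Two.solvable (T : Two G n m q p) : Group.IsSolvable G := by
  set Z := Subgroup.center G
  have hidx : ∀ r : ℕ, r.Prime → r ∣ Z.index → r = q ∨ r = p := by
    intro r hr hrd
    by_contra hc
    have : Fact r.Prime := ⟨hr⟩
    obtain ⟨R⟩ : Nonempty (Sylow r G) := inferInstance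
    refine R.not_dvd_index (hrd.trans (Subgroup.index_dvd_of_le fun a ha => ?_))
    by_contra haz
    exact hc (T.prime_cases hr (isPEl_of_mem R.2 ha) haz)
  have hcard : Nat.card (G ⧸ Z) =
      p ^ (Nat.card (G ⧸ Z)).factorization p * q ^ (Nat.card (G ⧸ Z)).factorization q := by
    set N := Nat.card (G ⧸ Z) with hN
    have hN0 : N ≠ 0 := Nat.card_pos.ne'
    refine Nat.eq_of_factorization_eq hN0 (mul_ne_zero (pow_ne_zero _ T.hp.ne_zero)
      (pow_ne_zero _ T.hq.ne_zero)) fun r => ?_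
    rw [Nat.factorization_mul (pow_ne_zero _ T.hp.ne_zero) (pow_ne_zero _ T.hq.ne_zero),
      T.hp.factorization_pow, T.hq.factorization_pow, Finsupp.add_apply, Finsupp.single_apply,
      Finsupp.single_apply]
    have hpq := T.p_ne_q
    by_cases h1 : p = r
    · subst h1; simp [hpq.symm]
    by_cases h2 : q = r
    · subst h2; simp [h1]
    rw [if_neg h1, if_neg h2, add_zero, Nat.factorization_eq_zero_iff]
    by_cases hr : r.Prime
    · refine Or.inr (Or.inl fun hd => ?_)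
      rcases hidx r hr hd with e | e
      · exact h2 e.symm
      · exact h1 e.symm
    · exact Or.inl hr
  have hq' : Group.IsSolvable (G ⧸ Z) := Lib.Induced.Burnside.isSolvable_of_card_eq p q _ _ T.hp T.hq hcard
  haveI : Group.IsSolvable Z :=
    Group.isSolvable_of_comm fun a b => Subtype.ext (Subgroup.mem_center_iff.1 b.2 a)
  exact Group.isSolvable_of_ker_le_range (Subgroup.center G).subtype (QuotientGroup.mk' Z)
    (by rw [QuotientGroup.ker_mk', Subgroup.range_subtype])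

/-- An element centralising both cores and of `p`-power order lies in `O_p(G)`. -/
theorem Two.mem_pCore (T : Two G n m q p) {x : G} (hx : IsPEl p x)
    (hR : ∀ r ∈ Cfsg.pCore p G, Commute x r) (hK : ∀ r ∈ Cfsg.pCore q G, Commute x r) :
    x ∈ Cfsg.pCore p G := by
  have : Fact p.Prime := ⟨T.hp⟩
  haveI := T.solvable
  refine mem_pCore_of_fitting (Cores.centralizer_fittingSubgroup_le ?_) hx
  rw [Cores.fittingSubgroup_eq_iSup_pCore]
  have hle : (⨆ r : Nat.Primes, Cfsg.pCore (r : ℕ) G) ≤ cen x := by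
    refine iSup_le fun r a ha => mem_cen.2 ?_
    by_cases haz : a ∈ Subgroup.center G
    · exact Subgroup.mem_center_iff.1 haz x
    rcases T.prime_cases r.2 (isPEl_of_mem (Cores.pCore_isPGroup _) ha) haz with e | e
    · exact hK a (e ▸ ha)
    · exact hR a (e ▸ ha)
  exact Subgroup.mem_centralizer_iff.2 fun a ha => (mem_cen.1 (hle ha)).symm

/-- `p`-elements of a Sylow subgroup of a centralizer of class size `n` centralise `O_p(G)`. -/
theorem pCore_le_cen (T : Two G n m q p) {x : G} (h : ¬ p ∣ idx x) : Cfsg.pCore p G ≤ cen x := by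
  have : Fact p.Prime := ⟨T.hp⟩
  obtain ⟨P, hP⟩ := exists_sylow_cen h
  exact (Cores.pCore_le_sylow P).trans hP

end Cfsg.Agent.Lib.ClassSizesFour21
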